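import Cfsg.Agent.H0.QG24.D
set_option maxRecDepth 100000
set_option Elab.async false
set_option linter.unusedSectionVars false
namespace H0.QG24
open H0 BN 
theorem defs_ok : DefsOK R.p defs 13 := defsOK_of_chk c24
universe u
variable {G : Type u} [Group G] [Finite G] (m0 : Model G) (h0 : m0.R = H0.MG24.R)
noncomputable def m : Model G := m0.ext (lg := nat_lit 9) (N := nat_lit 512) (l := H0.MG24.nl) h0 nl nl_ok 13 rfl defs defs_ok (by decide +kernel)
theorem mR : (m m0 h0).R = R := rfl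
variable (hb : m0.pst [112, 224, 101, 0] = ⊥) (hc : Nat.card G = 251596800)
include h0 hb hc
theorem base : (m m0 h0).pst [112, 224, 101, 0] = ⊥ := hb
omit hb hc in
theorem ch2_ok : (m m0 h0).ChainOK ch2 [] := ((m m0 h0).chain_cons [0, 1, 2, 3, 4, 5, 6, 7, 0] (Model.via _ (mR m0 h0) (fun R => Model.fixP R [] [[13], [14], [15], [16], [17], [21], [22], [23]]) c4) (Model.via _ (mR m0 h0) (fun R => Model.growP R [[13], [14], [15], [16], [17], [21], [22], [23]] [0, 1, 2, 3, 4, 5, 6, 7, 0] 0 256) c5) ((m m0 h0).chain_cons [0, 1, 2] (Model.via _ (mR m0 h0) (fun R => Model.fixP R [0] [[15, 19, 20, 23, 24], [17, 19, 21, 23], [18, 19, 20, 21, 22, 24]]) c2) (Model.via _ (mR m0 h0) (fun R => Model.growP R [[15, 19, 20, 23, 24], [17, 19, 21, 23], [18, 19, 20, 21, 22, 24]] [0, 1, 2] 1 8) c3) ((m m0 h0).chain_cons [0] (Model.via _ (mR m0 h0) (fun R => Model.fixP R [1, 0] [[14, 20, 21, 23]]) c0) (Model.via _ (mR m0 h0) (fun R => Model.growP R [[14, 20, 21, 23]]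 [0] 2 2) c1) ((m m0 h0).chain_nil _))))
theorem pb2 : PBound G (2 ^ (1 + 1)) :=
  (m m0 h0).pbound C2 13 (k := 61425) (K := 3) (e := 2) hc (lt_step_all (a := 0) (k := 110) (lt_zero_all _) ((m m0 h0).rules_of (base m0 h0 hb hc) (Model.via _ (mR m0 h0) (fun R => rulesB R [112, 224, 101, 0] (fun i => sh 13 (C2.L i)) (fun i => sh 13 (C2.R i)) 0 110) c6))) (ch2_ok m0 h0) (by decide +kernel) tests2 (all_take_done (all_take_step (all_take_zero _ tests2) (allL_spec c7)) (by decide +kernel))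
    av2 FS2 YS2 rows2 (all_take_done (all_take_step (all_take_zero _ rows2) (allL_spec c8)) (by decide +kernel)) c9
omit hb hc in
theorem ch3_ok : (m m0 h0).ChainOK ch3 [] := ((m m0 h0).chain_cons [0, 1, 0, 1] (Model.via _ (mR m0 h0) (fun R => Model.fixP R [] [[28], [29]]) c12) (Model.via _ (mR m0 h0) (fun R => Model.growP R [[28], [29]] [0, 1, 0, 1] 2 9) c13) ((m m0 h0).chain_cons [0, 0] (Model.via _ (mR m0 h0) (fun R => Model.fixP R [2] [[28, 30, 30]]) c10) (Model.via _ (mR m0 h0) (fun R => Model.growP R [[28, 30, 30]] [0, 0] 4 3) c11) ((m m0 h0).chain_nil _)))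
theorem pb3 : PBound G (3 ^ (0 + 1)) :=
  (m m0 h0).pbound C3 28 (k := 9318400) (K := 2) (e := 1) hc (lt_step_all (a := 0) (k := 9) (lt_zero_all _) ((m m0 h0).rules_of (base m0 h0 hb hc) (Model.via _ (mR m0 h0) (fun R => rulesB R [112, 224, 101, 0] (fun i => sh 28 (C3.L i)) (fun i => sh 28 (C3.R i)) 0 9) c14))) (ch3_ok m0 h0) (by decide +kernel) tests3 (all_take_done (all_take_step (all_take_zero _ tests3) (allL_spec c15)) (by decide +kernel))
    av3 FS3 YS3 rows3 (all_take_done (all_take_step (all_take_zero _ rows3) (allL_spec c16)) (by decide +kernel)) c17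
omit hb hc in
theorem ch5_ok : (m m0 h0).ChainOK ch5 [] := ((m m0 h0).chain_cons [0, 1, 0, 1, 0, 1, 0, 1] (Model.via _ (mR m0 h0) (fun R => Model.fixP R [] [[32], [33]]) c18) (Model.via _ (mR m0 h0) (fun R => Model.growP R [[32], [33]] [0, 1, 0, 1, 0, 1, 0, 1] 1 25) c19) ((m m0 h0).chain_nil _))
theorem pb5 : PBound G (5 ^ (0 + 1)) :=
  (m m0 h0).pbound C5 32 (k := 10063872) (K := 2) (e := 1) hc (lt_step_all (a := 0) (k := 5) (lt_zero_all _) ((m m0 h0).rules_of (base m0 h0 hb hc) (Model.via _ (mR m0 h0) (fun R => rulesB R [112, 224, 101, 0] (fun i => sh 32 (C5.L i)) (fun i => sh 32 (C5.R i)) 0 5) c20))) (ch5_ok m0 h0) (by decide +kernel) tests5 (all_take_done (all_take_step (all_take_zero _ tests5) (allL_spec c21)) (by decide +kernel))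
    av5 FS5 YS5 rows5 (all_take_done (all_take_step (all_take_zero _ rows5) (allL_spec c22)) (by decide +kernel)) c23
theorem bound (Γ : Type u) [Group Γ] [Finite Γ] (σ : Γ →* G) (hσ : Cfsg.IsStemExtension σ) : Nat.card σ.ker ∣ 2 :=
  card_ker_dvd (M := 13) (k := 12) (L := [2, 3, 5]) hc (by decide +kernel) (ex_bound (pb2 m0 h0 hb hc) (by decide) (ex_bound (pb3 m0 h0 hb hc) (by decide) (ex_bound (pb5 m0 h0 hb hc) (by decide) ex_bound_nil))) Γ σ hσ
end H0.QG24
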